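import Cfsg.Agent.H52.RegPair.Subset

/-! Every soluble permutation group has a colouring of its points with five colours which is fixed only
by the elements acting trivially, and whose cyclic shifts lie in five different orbits. -/

set_option autoImplicit false
set_option linter.unusedSectionVars false

namespace Cfsg.Agent.H39.Colour

open MulAction
open scoped Pointwise

universe u

/-- A five colouring fixed only by trivially acting elements, in a different orbit from its shifts. -/
def Good (G : Type u) [Group G] (X : Type u) [MulAction G X] (c : X → Fin 5) : Prop :=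
  ∀ (g : G) (d : Fin 5), (∀ x, c (g • x) = c x + d) → d = 0 ∧ ∀ x : X, g • x = x

/-- Soluble groups have good colourings of smaller sets. -/
def Below (Ω : Type u) : Prop :=
  ∀ (X : Type u) [Finite X] [Nonempty X] (H : Type u) [Group H] [Finite H] [Group.IsSolvable H]
    [MulAction H X], Nat.card X < Nat.card Ω → ∃ c : X → Fin 5, Good H X c

variable {G : Type u} [Group G] [Finite G] [Group.IsSolvable G] {Ω : Type u} [MulAction G Ω] [Finite Ω]

theorem good_of_invariant (ih : Below Ω) {Δ : Set Ω}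
    (hΔ : ∀ (g : G) x, x ∈ Δ → g • x ∈ Δ) (h0 : Δ.Nonempty) (h1 : Δ ≠ Set.univ) :
    ∃ c : Ω → Fin 5, Good G Ω c := by
  classical
  have hΔ' : ∀ (g : G) x, x ∈ Δᶜ → g • x ∈ Δᶜ := fun g x hx h => hx (by simpa using hΔ g⁻¹ _ h)
  let A₁ : SubMulAction G Ω := ⟨Δ, fun g x hx => hΔ g x hx⟩
  let A₂ : SubMulAction G Ω := ⟨Δᶜ, fun g x hx => hΔ' g x hx⟩
  obtain ⟨a, ha⟩ := h0
  obtain ⟨b, hb⟩ := (Set.ne_univ_iff_exists_notMem _).1 h1
  haveI : Nonempty A₁ := ⟨⟨a, ha⟩⟩
  haveI : Nonempty A₂ := ⟨⟨b, hb⟩⟩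
  obtain ⟨c₁, hc₁⟩ := ih A₁ G (Finite.card_subtype_lt (x := b) hb)
  obtain ⟨c₂, hc₂⟩ := ih A₂ G (Finite.card_subtype_lt (x := a) (fun h => h ha))
  refine ⟨fun x => if h : x ∈ Δ then c₁ ⟨x, h⟩ else c₂ ⟨x, h⟩, fun g d hg => ?_⟩
  have e₁ : ∀ x : A₁, c₁ (g • x) = c₁ x + d := by
    rintro ⟨x, hx⟩
    have h := hg x
    simp only [dif_pos (show x ∈ Δ from hx), dif_pos (hΔ g x hx)] at h
    exact h
  have e₂ : ∀ x : A₂, c₂ (g • x) = c₂ x + d := by
    rintro ⟨x, hx⟩
    have h := hg x
    simp only [dif_neg (show x ∉ Δ from hx), dif_neg (show g • x ∉ Δ from hΔ' g x hx)] at h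
    exact h
  obtain ⟨hd, f₁⟩ := hc₁ g d e₁
  obtain ⟨-, f₂⟩ := hc₂ g d e₂
  refine ⟨hd, fun x => ?_⟩
  by_cases hx : x ∈ Δ
  · exact congrArg Subtype.val (f₁ ⟨x, hx⟩)
  · exact congrArg Subtype.val (f₂ ⟨x, hx⟩)

theorem good_of_block [IsPretransitive G Ω] (ih : Below Ω)
    {B : Set Ω} (hB : IsBlock G B) (h2 : B.Nontrivial) (hu : B ≠ Set.univ) :
    ∃ c : Ω → Fin 5, Good G Ω c := by
  classical
  obtain ⟨b0, hb0⟩ := h2.nonempty
  have hprod := hB.ncard_block_mul_ncard_orbit_eq h2.nonempty
  have hBcard : 2 ≤ B.ncard := Set.one_lt_ncard_iff_nontrivial.2 h2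
  have horb : Nat.card (orbit G B) < Nat.card Ω := by
    rw [Nat.card_coe_set_eq, ← hprod]
    have hpos : 0 < (orbit G B).ncard := (Set.ncard_pos (Set.toFinite _)).2 ⟨B, mem_orbit_self B⟩
    exact (Nat.lt_mul_iff_one_lt_left hpos).2 hBcard
  haveI : Nonempty (orbit G B) := ⟨⟨B, mem_orbit_self B⟩⟩
  obtain ⟨c₀, hc₀⟩ := ih (orbit G B) G horb
  let HB := stabilizer G B
  have hHB : ∀ (h : HB) x, x ∈ B → h • x ∈ B := fun h x hx => by
    rw [Subgroup.smul_def]
    have hh : (h : G) • B = B := h.2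
    exact hh ▸ Set.smul_mem_smul_set hx
  let Bs : SubMulAction HB Ω := ⟨B, fun h x hx => hHB h x hx⟩
  obtain ⟨z0, hz0⟩ := (Set.ne_univ_iff_exists_notMem _).1 hu
  haveI : Nonempty Bs := ⟨⟨b0, hb0⟩⟩
  obtain ⟨c₁, hc₁⟩ := ih Bs HB (Finite.card_subtype_lt (x := z0) hz0)
  choose t ht' using fun C : orbit G B => C.2
  have ht : ∀ C : orbit G B, t C • B = (C : Set Ω) := ht'
  have hblk : ∀ (x : Ω) (C D : orbit G B), x ∈ (C : Set Ω) → x ∈ (D : Set Ω) → C = D := by
    intro x C D hC hD
    rw [← ht C] at hC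
    rw [← ht D] at hD
    refine Subtype.ext ((ht C).symm.trans (Eq.trans ?_ (ht D)))
    exact hB.smul_eq_smul_of_nonempty ⟨x, hC, hD⟩
  have hcov : ∀ x : Ω, ∃ C : orbit G B, x ∈ (C : Set Ω) := fun x => by
    obtain ⟨k, hk⟩ := MulAction.exists_smul_eq G b0 x
    exact ⟨⟨k • B, mem_orbit B k⟩, hk ▸ Set.smul_mem_smul_set hb0⟩
  choose blk hblk' using hcov
  have hmem : ∀ (C : orbit G B) x, x ∈ (C : Set Ω) → (t C)⁻¹ • x ∈ B := fun C x hx => by
    rw [← Set.mem_smul_set_iff_inv_smul_mem, ht C]; exact hx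
  let c : Ω → Fin 5 := fun x => c₁ ⟨_, hmem (blk x) x (hblk' x)⟩ + c₀ (blk x)
  have hc : ∀ (C : orbit G B) (y : Bs), c (t C • (y : Ω)) = c₁ y + c₀ C := by
    intro C y
    have hin : t C • (y : Ω) ∈ (C : Set Ω) := ht C ▸ Set.smul_mem_smul_set y.2
    have e : blk (t C • (y : Ω)) = C := hblk _ _ _ (hblk' _) hin
    simp only [c]
    congr 2
    · exact Subtype.ext (by simp [e])
  refine ⟨c, fun g d hg => ?_⟩
  have hmove : ∀ C : orbit G B, ∃ h : HB, (h : G) = (t (g • C))⁻¹ * g * t C ∧
      (∀ y : Bs, h • y = y) ∧ c₀ (g • C) = c₀ C + d := by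
    intro C
    have hst : (t (g • C))⁻¹ * g * t C ∈ HB := by
      rw [mem_stabilizer_iff, mul_smul, mul_smul, inv_smul_eq_iff]
      exact (congrArg (g • ·) (ht C)).trans (ht (g • C)).symm
    refine ⟨⟨_, hst⟩, rfl, ?_⟩
    have key : ∀ y : Bs, c₁ ((⟨_, hst⟩ : HB) • y) = c₁ y + (c₀ C + d - c₀ (g • C)) := by
      intro y
      have h1 := hg (t C • (y : Ω))
      have e : g • t C • (y : Ω) = t (g • C) • (((⟨_, hst⟩ : HB) • y : Bs) : Ω) := by
        show _ = t (g • C) • (((t (g • C))⁻¹ * g * t C) • (y : Ω))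
        rw [mul_smul, mul_smul, smul_inv_smul]
      rw [e, hc, hc] at h1
      rw [eq_sub_of_add_eq h1]; abel
    obtain ⟨h0, hfix⟩ := hc₁ _ _ key
    exact ⟨hfix, (sub_eq_zero.1 h0).symm⟩
  obtain ⟨hd, hall⟩ := hc₀ g d fun C => (hmove C).choose_spec.2.2
  refine ⟨hd, fun x => ?_⟩
  obtain ⟨h, hh, hfix, -⟩ := hmove (blk x)
  rw [hall (blk x)] at hh
  have hz := congrArg Subtype.val (hfix ⟨_, hmem (blk x) x (hblk' x)⟩)
  change (h : G) • (t (blk x))⁻¹ • x = (t (blk x))⁻¹ • x at hz
  rw [hh, mul_smul, mul_smul, smul_inv_smul, inv_smul_eq_iff, smul_inv_smul] at hz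
  exact hz

theorem fin5_reach : ∀ d : Fin 5, d ≠ 0 → ∀ i j, ∃ m : Fin 5, i + m.1 • d = j := by decide

section Vectors

variable {p : ℕ} [Fact p.Prime] {k : ℕ}

open Classical in
/-- Colours of the vectors: zero, the first basis vector, the others, sums of two consecutive ones. -/
noncomputable def vcol (v : Fin k → ZMod p) : Fin 5 :=
  if v = 0 then 0
  else if ∃ i : Fin k, (i : ℕ) = 0 ∧ v = Pi.single i 1 then 1
  else if ∃ i : Fin k, v = Pi.single i 1 then 2
  else if ∃ i j : Fin k, (j : ℕ) = (i : ℕ) + 1 ∧ v = Pi.single i 1 + Pi.single j 1 then 3 else 4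

theorem vcol_eq_zero (v : Fin k → ZMod p) : vcol v = 0 ↔ v = 0 := by
  simp only [vcol]; split_ifs <;> simp_all

theorem single_ne_zero (i : Fin k) : (Pi.single i 1 : Fin k → ZMod p) ≠ 0 := fun h =>
  one_ne_zero (α := ZMod p) (by simpa using congrFun h i)

theorem single_inj {i j : Fin k} (h : (Pi.single i 1 : Fin k → ZMod p) = Pi.single j 1) : i = j := by
  by_contra hij
  exact one_ne_zero (α := ZMod p) (by simpa [Pi.single_eq_of_ne hij] using congrFun h i)

theorem pair_ne_zero {i j : Fin k} (hij : i ≠ j) :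
    (Pi.single i 1 + Pi.single j 1 : Fin k → ZMod p) ≠ 0 := fun h =>
  one_ne_zero (α := ZMod p) (by simpa [Pi.single_eq_of_ne hij] using congrFun h i)

theorem pair_ne_single {i j l : Fin k} (hij : i ≠ j) :
    (Pi.single i 1 + Pi.single j 1 : Fin k → ZMod p) ≠ Pi.single l 1 := fun h => by
  have hi := congrFun h i
  have hj := congrFun h j
  simp [Pi.single_eq_of_ne hij, Pi.single_eq_of_ne (Ne.symm hij)] at hi hj
  by_cases hil : i = l
  · subst hil; simp [Pi.single_eq_of_ne (Ne.symm hij)] at hj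
  · simp [Pi.single_eq_of_ne hil] at hi

theorem pair_mem {i j l m : Fin k} (hij : i ≠ j)
    (h : (Pi.single i 1 + Pi.single j 1 : Fin k → ZMod p) = Pi.single l 1 + Pi.single m 1) :
    i = l ∨ i = m := by
  by_contra hno
  push Not at hno
  have hi := congrFun h i
  simp [Pi.single_eq_of_ne hij, Pi.single_eq_of_ne hno.1, Pi.single_eq_of_ne hno.2] at hi

theorem vcol_single (i : Fin k) :
    vcol (Pi.single i (1 : ZMod p)) = if (i : ℕ) = 0 then 1 else 2 := by
  have hex : ∃ j, (Pi.single i 1 : Fin k → ZMod p) = Pi.single j 1 := ⟨i, rfl⟩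
  simp only [vcol, if_neg (single_ne_zero i), if_pos hex]
  by_cases hi : (i : ℕ) = 0
  · rw [if_pos hi, if_pos ⟨i, hi, rfl⟩]
  · rw [if_neg hi, if_neg]
    rintro ⟨j, hj, hv⟩
    exact hi (single_inj hv ▸ hj)

theorem vcol_one_two {v : Fin k → ZMod p} (hv : vcol v = 1 ∨ vcol v = 2) :
    ∃ i, v = Pi.single i 1 := by
  simp only [vcol] at hv
  split_ifs at hv with a b c d
  · simp at hv
  · exact ⟨b.choose, b.choose_spec.2⟩
  · exact c
  · simp at hv
  · simp at hv

theorem vcol_three {v : Fin k → ZMod p} (hv : vcol v = 3) :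
    ∃ i j : Fin k, (j : ℕ) = (i : ℕ) + 1 ∧ v = Pi.single i 1 + Pi.single j 1 := by
  simp only [vcol] at hv
  split_ifs at hv with a b c d
  all_goals first | exact d | simp at hv

theorem vcol_pair {i j : Fin k} (hij : (j : ℕ) = (i : ℕ) + 1) :
    vcol (Pi.single i 1 + Pi.single j 1 : Fin k → ZMod p) = 3 := by
  have hne : i ≠ j := fun h => by subst h; omega
  simp only [vcol, if_neg (pair_ne_zero (p := p) hne)]
  rw [if_neg (fun ⟨l, _, hl⟩ => pair_ne_single hne hl), if_neg (fun ⟨l, hl⟩ => pair_ne_single hne hl),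
    if_pos ⟨i, j, hij, rfl⟩]

/-- An injective additive map keeping the colours is the identity. -/
theorem vcol_rigid (φ : (Fin k → ZMod p) →+ (Fin k → ZMod p)) (hinj : Function.Injective φ)
    (hcol : ∀ v, vcol (φ v) = vcol v) : ∀ v, φ v = v := by
  have hfix : ∀ (n : ℕ) (i : Fin k), (i : ℕ) = n → φ (Pi.single i 1) = Pi.single i 1 := by
    intro n
    induction n using Nat.strong_induction_on with
    | _ n ih =>
      intro i hin
      obtain ⟨l, hl⟩ := vcol_one_two (v := φ (Pi.single i 1))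
        (by rw [hcol, vcol_single]; split_ifs <;> simp)
      have hl0 : ((l : ℕ) = 0 ↔ (i : ℕ) = 0) := by
        have h := hcol (Pi.single i 1)
        rw [hl, vcol_single, vcol_single] at h
        by_cases h1 : (l : ℕ) = 0 <;> by_cases h2 : (i : ℕ) = 0 <;> simp_all
      rw [hl]; congr 1
      rcases n with _ | m
      · exact Fin.ext ((hl0.2 hin).trans hin.symm)
      · let i' : Fin k := ⟨m, by have := i.2; omega⟩
        have hi' : (i' : ℕ) = m := rfl
        have hfi := ih m (by omega) i' hi'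
        have hT := vcol_pair (p := p) (i := i') (j := i) (by omega)
        rw [← hcol, map_add, hfi, hl] at hT
        obtain ⟨a, c, hac, hv⟩ := vcol_three hT
        have hil : i' ≠ l := by
          intro heq
          have h := hfi
          rw [heq] at h
          have := congrArg Fin.val (single_inj (hinj (h.trans hl.symm)))
          have := congrArg Fin.val heq
          omega
        have hcase := pair_mem hil hv
        have hcase2 := pair_mem (Ne.symm hil) ((add_comm _ _).trans hv)
        rcases hcase with h | h <;> rcases hcase2 with h' | h'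
        · exact absurd (h.trans h'.symm) hil
        · have e1 := congrArg Fin.val h
          have e2 := congrArg Fin.val h'
          exact Fin.ext (by omega)
        · exfalso
          have e1 := congrArg Fin.val h
          have e2 := congrArg Fin.val h'
          have hfl := ih l (by omega) l rfl
          have := congrArg Fin.val (single_inj (hinj (hfl.trans hl.symm)))
          omega
        · exact absurd (h.trans h'.symm) hil
  have : φ.toZModLinearMap p = LinearMap.id := (Pi.basisFun (ZMod p) (Fin k)).ext fun i => by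
    simp only [Pi.basisFun_apply, LinearMap.id_apply]
    exact hfix i i rfl
  exact fun v => LinearMap.congr_fun this v

end Vectors

theorem good_of_primitive [FaithfulSMul G Ω] [IsPreprimitive G Ω] [Nontrivial Ω] :
    ∃ c : Ω → Fin 5, Good G Ω c := by
  classical
  haveI : Nontrivial G := by
    by_contra hne
    rw [not_nontrivial_iff_subsingleton] at hne
    obtain ⟨a, b, hab⟩ := exists_pair_ne Ω
    obtain ⟨g, hg⟩ := MulAction.exists_smul_eq G a b
    exact hab (by rw [← hg, Subsingleton.elim g 1, one_smul])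
  obtain ⟨N, p, hNn, hNne, hp, hcomm, hexp⟩ := H52.RegPair.exists_normal_elementary (G := G)
  haveI := hNn
  haveI : IsPretransitive N Ω := by
    refine IsQuasiPreprimitive.isPretransitive_of_normal (fun hfix => hNne ?_)
    refine (Subgroup.eq_bot_iff_forall N).2 fun x hx => eq_of_smul_eq_smul (α := Ω) fun a => ?_
    have ha : a ∈ fixedPoints N Ω := hfix ▸ Set.mem_univ a
    rw [one_smul]
    exact ha ⟨x, hx⟩
  have ω : Ω := Classical.arbitrary Ω
  letI : CommGroup N := { (inferInstance : Group N) with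
    mul_comm := fun a b => Subtype.ext (hcomm a a.2 b b.2) }
  have hfree : ∀ x : N, x • ω = ω → x = 1 := by
    intro x hx
    refine Subtype.ext (eq_of_smul_eq_smul (α := Ω) fun a => ?_)
    obtain ⟨y, rfl⟩ := MulAction.exists_smul_eq N ω a
    rw [OneMemClass.coe_one, one_smul]
    show x • y • ω = y • ω
    rw [← mul_smul, mul_comm, mul_smul, hx]
  have hbij : Function.Bijective fun x : N => x • ω := by
    refine ⟨fun x y h => ?_, fun a => MulAction.exists_smul_eq N ω a⟩
    have h' : x • ω = y • ω := h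
    exact (inv_mul_eq_one.1 (hfree (y⁻¹ * x) (by rw [mul_smul, h', inv_smul_smul]))).symm
  haveI := Fact.mk hp
  letI : Module (ZMod p) (Additive N) := AddCommGroup.zmodModule (n := p) fun x =>
    congrArg Additive.ofMul (Subtype.ext (hexp x.toMul x.toMul.2) : x.toMul ^ p = 1)
  haveI : Module.Finite (ZMod p) (Additive N) := Module.Finite.of_finite
  let k := Module.finrank (ZMod p) (Additive N)
  let b : Module.Basis (Fin k) (ZMod p) (Additive N) := Module.finBasis _ _
  let e : N ≃ (Fin k → ZMod p) := Additive.ofMul.trans b.equivFun.toEquiv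
  have hemul : ∀ x y, e (x * y) = e x + e y := fun x y => map_add b.equivFun _ _
  have heone : e 1 = 0 := map_zero b.equivFun
  let π : N ≃ Ω := Equiv.ofBijective _ hbij
  refine ⟨fun a => vcol (e (π.symm a)), fun g d hg => ?_⟩
  have hd : d = 0 := by
    by_contra hd
    let cΩ : Ω → Fin 5 := fun a => vcol (e (π.symm a))
    have hiter : ∀ (m : ℕ) (a : Ω), cΩ (g ^ m • a) = cΩ a + m • d := by
      intro m
      induction m with
      | zero => simp
      | succ m ih => intro a; rw [pow_succ, mul_smul, ih, show cΩ (g • a) = cΩ a + d from hg a,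
          succ_nsmul, add_assoc, add_comm d]
    have hreach : ∀ i j : Fin 5, ∃ m : ℕ, i + m • d = j := by
      intro i j
      obtain ⟨m, hm⟩ := fin5_reach d hd i j
      exact ⟨m.1, hm⟩
    have h00 : cΩ (π 1) = 0 := by simp [cΩ, heone, vcol_eq_zero]
    have hzero : ∀ a, cΩ a = 0 → a = π 1 := fun a ha => by
      have := (vcol_eq_zero _).1 ha
      rw [← heone, e.apply_eq_iff_eq] at this
      rw [← this, π.apply_symm_apply]
    have hcbij : Function.Bijective cΩ := by
      refine ⟨fun x y hxy => ?_, fun i => ?_⟩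
      · obtain ⟨m, hm⟩ := hreach (cΩ x) 0
        have hx := hzero _ ((hiter m x).trans hm)
        have hy := hzero _ (((hiter m y).trans (by rw [← hxy])).trans hm)
        exact smul_left_cancel _ (hx.trans hy.symm)
      · obtain ⟨m, hm⟩ := hreach 0 i
        exact ⟨g ^ m • π 1, by rw [hiter, h00, hm]⟩
    have hk : p ^ k = 5 := by
      have hc := (Nat.card_congr (Equiv.ofBijective cΩ hcbij)).symm.trans
        ((Nat.card_congr π.symm).trans (Nat.card_congr e))
      rw [Nat.card_fin, Nat.card_fun, Nat.card_zmod, Nat.card_fin] at hc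
      exact hc.symm
    obtain ⟨a, ha⟩ := hcbij.2 2
    obtain ⟨i, hi⟩ := vcol_one_two (Or.inr ha)
    have hi0 : (i : ℕ) ≠ 0 := fun h => by
      have h2 : cΩ a = 1 := by show vcol _ = 1; rw [hi, vcol_single, if_pos h]
      rw [ha] at h2; simp at h2
    have hk2 : 2 ≤ k := by have := i.2; omega
    have : p ^ 2 ≤ 5 := hk ▸ Nat.pow_le_pow_right hp.pos hk2
    have hp2 : p = 2 := by nlinarith [hp.two_le]
    subst hp2
    have : 2 ∣ 5 := hk ▸ dvd_pow_self 2 (by omega)
    omega
  subst hd
  refine ⟨rfl, ?_⟩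
  -- the base point is fixed
  have hg' : ∀ a, vcol (e (π.symm (g • a))) = vcol (e (π.symm a)) := fun a => by
    simpa using hg a
  have hω : g • ω = ω := by
    have h := hg' ω
    have hπ : π.symm ω = 1 := by
      rw [Equiv.symm_apply_eq]; exact (one_smul N ω).symm
    rw [hπ, heone, (vcol_eq_zero 0).2 rfl, vcol_eq_zero, ← heone, e.apply_eq_iff_eq, ← hπ] at h
    exact π.symm.injective h
  have hω' : g⁻¹ • ω = ω := by rw [inv_smul_eq_iff, hω]
  let cj : N → N := fun x => ⟨g * x * g⁻¹, hNn.conj_mem x x.2 g⟩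
  have hcjmul : ∀ x y, cj (x * y) = cj x * cj y := fun x y => Subtype.ext (by simp [cj, mul_assoc])
  have hact : ∀ x : N, g • π x = π (cj x) := fun x => by
    show g • ((x : G) • ω) = (g * (x : G) * g⁻¹) • ω
    rw [mul_smul, hω', mul_smul]
  let φ : (Fin k → ZMod p) →+ (Fin k → ZMod p) := AddMonoidHom.mk' (fun v => e (cj (e.symm v)))
    fun v w => by
      rw [← hemul, ← hcjmul]
      congr 2
      rw [e.symm_apply_eq, hemul, e.apply_symm_apply, e.apply_symm_apply]
  have hcol : ∀ v, vcol (φ v) = vcol v := fun v => by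
    have h := hg' (π (e.symm v))
    rw [hact, π.symm_apply_apply, π.symm_apply_apply, e.apply_symm_apply] at h
    exact h
  have hφinj : Function.Injective φ := fun v w h => e.symm.injective (Subtype.ext (by
    simpa [cj] using congrArg Subtype.val (e.injective h)))
  have hid := vcol_rigid φ hφinj hcol
  intro a
  obtain ⟨x, rfl⟩ := π.surjective a
  rw [hact]
  congr 1
  have h := hid (e x)
  simp only [φ, AddMonoidHom.mk'_apply, e.symm_apply_apply, e.apply_eq_iff_eq] at h
  exact h

/-- Every soluble group has a good five colouring of a nonempty set. -/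
theorem exists_good (G : Type u) [Group G] [Finite G] [Group.IsSolvable G] (Ω : Type u) [MulAction G Ω]
    [Finite Ω] [Nonempty Ω] : ∃ c : Ω → Fin 5, Good G Ω c := by
  suffices h : ∀ n, ∀ (Ω : Type u) [Finite Ω] [Nonempty Ω] (G : Type u) [Group G] [Finite G]
      [Group.IsSolvable G] [MulAction G Ω], Nat.card Ω = n → ∃ c : Ω → Fin 5, Good G Ω c from
    h _ Ω G rfl
  intro n
  induction n using Nat.strong_induction_on with
  | _ n ih =>
    intro Ω _ _ G _ _ _ _ hn
    subst hn
    have ih' : Below Ω := fun X _ _ H _ _ _ _ hX => ih _ hX X H rfl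
    rcases subsingleton_or_nontrivial Ω with hs | hnt
    · refine ⟨fun _ => 0, fun g d hg => ⟨?_, fun x => Subsingleton.elim _ _⟩⟩
      simpa using (hg (Classical.arbitrary Ω)).symm
    by_cases htr : IsPretransitive G Ω
    swap
    · obtain ⟨a, b, hab⟩ : ∃ a b : Ω, ∀ g : G, g • a ≠ b := by
        by_contra hno
        push Not at hno
        exact htr ⟨hno⟩
      exact good_of_invariant ih' (Δ := orbit G a) (fun g x hx => mapsTo_smul_orbit g a hx)
        ⟨a, mem_orbit_self a⟩ (fun h => by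
          obtain ⟨g, hg⟩ : b ∈ orbit G a := h ▸ Set.mem_univ b
          exact hab g hg)
    by_cases hpr : IsPreprimitive G Ω
    swap
    · obtain ⟨B, hB, hBt⟩ : ∃ B : Set Ω, IsBlock G B ∧ ¬ IsTrivialBlock B := by
        by_contra hno
        push Not at hno
        exact hpr { isTrivialBlock_of_isBlock := fun {B} hB => hno B hB }
      simp only [IsTrivialBlock, not_or, Set.not_subsingleton_iff] at hBt
      exact good_of_block ih' hB hBt.1 hBt.2
    let φ := MulAction.toPermHom G Ω
    haveI : Group.IsSolvable φ.range := Group.isSolvable_of_surjective φ.rangeRestrict_surjective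
    haveI : IsPreprimitive φ.range Ω := IsPreprimitive.of_surjective (φ := φ.rangeRestrict)
      (f := ({ toFun := id, map_smul' := fun _ _ => rfl } : Ω →ₑ[φ.rangeRestrict] Ω)) Function.surjective_id
    obtain ⟨c, hc⟩ := good_of_primitive (G := φ.range) (Ω := Ω)
    exact ⟨c, fun g d hg => hc (φ.rangeRestrict g) d hg⟩

end Cfsg.Agent.H39.Colour
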