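import Cfsg.Agent.H39.Colour.Three

/-! An elementary abelian group of odd exponent has a colouring by two colours and a blank, preserved
by no automorphism but the identity, in which a generating set and its pair products are coloured. -/

set_option autoImplicit false
set_option linter.unusedSectionVars false

namespace Cfsg.Agent.H39.Colour.Abelian

universe u

variable {l k : ℕ} [Fact l.Prime]

/-- The unit vectors. -/
def unit : Set (Fin k → ZMod l) := {v | ∃ i, v = Pi.single i 1}

/-- The coloured sums of unit vectors. -/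
def sums : Set (Fin k → ZMod l) :=
  {v | ∃ i, v = Pi.single i 2 ∨ ∃ j : Fin k, i ≠ j ∧
    (v = Pi.single i 1 + Pi.single j 1 ∨ ((j : ℕ) = (i : ℕ) + 1 ∧ v = Pi.single i 2 + Pi.single j 1))}

theorem two_ne (h2 : l ≠ 2) : (2 : ZMod l) ≠ 0 ∧ (2 : ZMod l) ≠ 1 := by
  refine ⟨fun h => h2 ?_, fun h => one_ne_zero (α := ZMod l) (by linear_combination h)⟩
  have h' : ((2 : ℕ) : ZMod l) = 0 := by exact_mod_cast h
  exact (Nat.prime_dvd_prime_iff_eq (Fact.out : l.Prime) Nat.prime_two).1
    ((ZMod.natCast_eq_zero_iff 2 l).1 h')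

theorem not_sums (h2 : l ≠ 2) {v : Fin k → ZMod l} (hv : v ∈ unit) : v ∉ sums := by
  obtain ⟨n2, n21⟩ := two_ne (l := l) h2
  obtain ⟨a, rfl⟩ := hv
  rintro ⟨i, h | ⟨j, hij, h | ⟨-, h⟩⟩⟩
  · have hi := congrFun h i
    by_cases ha : i = a
    · subst ha; simp at hi; exact n21 hi.symm
    · simp [ha] at hi; exact n2 hi.symm
  · have hi := congrFun h i
    have hj := congrFun h j
    by_cases ha : i = a
    · subst ha; simp [Ne.symm hij] at hj
    · simp [ha, hij] at hi
  · have hi := congrFun h i
    by_cases ha : i = a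
    · subst ha; simp [hij] at hi; exact n21 hi.symm
    · simp [ha, hij] at hi; exact n2 hi.symm

/-- An injective additive map keeping both sets is the identity. -/
theorem rigid (h2 : l ≠ 2) (φ : (Fin k → ZMod l) →+ (Fin k → ZMod l))
    (hinj : Function.Injective φ) (hu : ∀ v ∈ unit, φ v ∈ unit) (hs : ∀ v ∈ sums, φ v ∈ sums) :
    ∀ v, φ v = v := by
  obtain ⟨n2, n21⟩ := two_ne (l := l) h2
  have hσ : ∀ i, ∃ s, φ (Pi.single i 1) = Pi.single s 1 := fun i => hu _ ⟨i, rfl⟩
  choose σ hσ using hσ
  have hσinj : Function.Injective σ := fun i j h => by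
    have h1 : φ (Pi.single i 1) = φ (Pi.single j 1) := by rw [hσ, hσ, h]
    have h3 := congrFun (hinj h1) i
    by_contra hne
    simp [hne] at h3
  have hd : ∀ a : Fin k, (Pi.single a 2 : Fin k → ZMod l) = Pi.single a 1 + Pi.single a 1 := fun a => by
    rw [← Pi.single_add]; norm_num
  have hsucc : ∀ i j : Fin k, (j : ℕ) = (i : ℕ) + 1 → (σ j : ℕ) = (σ i : ℕ) + 1 := by
    intro i j hij
    have hne : i ≠ j := fun e => by subst e; omega
    have hne' : σ i ≠ σ j := fun e => hne (hσinj e)
    have hv := hs _ (⟨i, Or.inr ⟨j, hne, Or.inr ⟨hij, rfl⟩⟩⟩ : Pi.single i 2 + Pi.single j 1 ∈ sums (l := l))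
    rw [map_add, hd, map_add, hσ, hσ, ← hd] at hv
    obtain ⟨a, h | ⟨b, hab, h | ⟨hb, h⟩⟩⟩ := hv
    · have hj := congrFun h (σ j)
      by_cases hl : σ j = a
      · subst hl; simp [Ne.symm hne'] at hj; exact absurd hj.symm n21
      · simp [Ne.symm hne', hl] at hj
    · have hi := congrFun h (σ i)
      by_cases hl : σ i = a
      · subst hl; simp [hne', hab] at hi; exact absurd hi n21
      · by_cases hm : σ i = b
        · subst hm; simp [hne', hl] at hi; exact absurd hi n21
        · simp [hne', hl, hm] at hi; exact absurd hi n2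
    · have hi := congrFun h (σ i)
      have hj := congrFun h (σ j)
      have hia : σ i = a := by
        by_contra hl
        by_cases hm : σ i = b
        · subst hm; simp [hne', hl] at hi; exact n21 hi
        · simp [hne', hl, hm] at hi; exact n2 hi
      have hjb : σ j = b := by
        by_contra hm
        have : σ j ≠ a := fun e => hne' (hia.trans e.symm)
        simp [Ne.symm hne', this, hm] at hj
      rw [hia, hjb]; exact hb
  have hlin : ∀ (d : ℕ) (i j : Fin k), (j : ℕ) = (i : ℕ) + d → (σ j : ℕ) = (σ i : ℕ) + d := by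
    intro d
    induction d with
    | zero => intro i j h; rw [Fin.ext (h.trans (add_zero _)) ]; rfl
    | succ d ih =>
      intro i j h
      let j' : Fin k := ⟨(i : ℕ) + d, by have := j.2; omega⟩
      have h1 := ih i j' rfl
      have h2 := hsucc j' j (by show _ = (i : ℕ) + d + 1; omega)
      omega
  have hid : ∀ i, σ i = i := fun i => by
    have hk : 0 < k := by have := i.2; omega
    let o : Fin k := ⟨0, hk⟩
    let t : Fin k := ⟨k - 1, by omega⟩
    have ht := hlin (k - 1) o t (by show k - 1 = 0 + (k - 1); omega)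
    have hb := (σ t).2
    have hi := hlin (i : ℕ) o i (by show (i : ℕ) = 0 + i; omega)
    exact Fin.ext (by omega)
  have : φ.toZModLinearMap l = LinearMap.id := (Pi.basisFun (ZMod l) (Fin k)).ext fun i => by
    simp only [Pi.basisFun_apply, LinearMap.id_apply]
    exact (hσ i).trans (by rw [hid])
  exact fun v => LinearMap.congr_fun this v

theorem exists_colouring_two (T : Type u) [CommGroup T] [Finite T] (l : ℕ) (hl : l.Prime)
    (h2 : l ≠ 2) (hT : ∀ t : T, t ^ l = 1) :
    ∃ (κ : T → Fin 3) (Gen : Finset T), Subgroup.closure (Gen : Set T) = ⊤ ∧ 1 ∉ Gen ∧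
      (∀ s ∈ Gen, κ s ≠ 0) ∧ (∀ s ∈ Gen, ∀ s' ∈ Gen, s * s' ≠ 1 → κ (s * s') ≠ 0) ∧
      ∀ π : T ≃* T, (∀ t, t ≠ 1 → κ (π t) = κ t) → ∀ t, π t = t := by
  classical
  haveI := Fact.mk hl
  haveI : NeZero l := ⟨hl.ne_zero⟩
  letI : Module (ZMod l) (Additive T) := AddCommGroup.zmodModule (n := l) fun x =>
    congrArg Additive.ofMul (hT x.toMul)
  haveI : Module.Finite (ZMod l) (Additive T) := Module.Finite.of_finite
  let k := Module.finrank (ZMod l) (Additive T)
  let b : Module.Basis (Fin k) (ZMod l) (Additive T) := Module.finBasis _ _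
  let e : T ≃ (Fin k → ZMod l) := Additive.ofMul.trans b.equivFun.toEquiv
  have hemul : ∀ x y, e (x * y) = e x + e y := fun x y => map_add b.equivFun _ _
  have heone : e 1 = 0 := map_zero b.equivFun
  let eh : (Fin k → ZMod l) →+ Additive T :=
    { toFun := fun v => Additive.ofMul (e.symm v)
      map_zero' := by rw [← heone, e.symm_apply_apply]; rfl
      map_add' := fun v w => by
        rw [← ofMul_mul]; congr 1
        rw [e.symm_apply_eq, hemul, e.apply_symm_apply, e.apply_symm_apply] }
  let κ : T → Fin 3 := fun t => if e t ∈ unit then 1 else if e t ∈ sums then 2 else 0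
  let Gen : Finset T := Finset.univ.image fun i : Fin k => e.symm (Pi.single i 1)
  have hgen : ∀ s ∈ Gen, ∃ i, e s = Pi.single i 1 := fun s hs => by
    obtain ⟨i, -, rfl⟩ := Finset.mem_image.1 hs
    exact ⟨i, e.apply_symm_apply _⟩
  have hk1 : ∀ t, e t ∈ unit → κ t = 1 := fun t h => if_pos h
  have hk2 : ∀ t, e t ∈ sums → κ t = 2 := fun t h =>
    (if_neg fun h' => not_sums h2 h' h).trans (if_pos h)
  have hne : ∀ t, e t ∈ unit ∨ e t ∈ sums → κ t ≠ 0 := fun t h => by
    rcases h with h | h
    · rw [hk1 t h]; decide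
    · rw [hk2 t h]; decide
  refine ⟨κ, Gen, ?_, fun h => ?_, fun s hs => hne s (Or.inl (hgen s hs)),
    fun s hs s' hs' _ => hne _ (Or.inr ?_), fun π hπ => ?_⟩
  · rw [eq_top_iff]
    intro t _
    have hsum : Additive.ofMul t = ∑ i, (e t i).val • eh (Pi.single i 1) := by
      calc Additive.ofMul t = eh (e t) := by simp [eh]
        _ = eh (∑ i, (e t i).val • Pi.single i (1 : ZMod l)) := by
          congr 1
          refine funext fun a => ?_
          simp [Finset.sum_apply, Pi.single_apply, nsmul_eq_mul, ZMod.natCast_zmod_val, -ZMod.natCast_val]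
        _ = _ := by rw [map_sum]; simp only [map_nsmul]
    have ht : t = ∏ i, (e.symm (Pi.single i 1)) ^ (e t i).val := hsum
    rw [ht]
    exact prod_mem fun i _ => pow_mem
      (Subgroup.subset_closure (Finset.mem_coe.2 (Finset.mem_image_of_mem _ (Finset.mem_univ i)))) _
  · obtain ⟨i, hi⟩ := hgen 1 h
    rw [heone] at hi
    simpa using congrFun hi i
  · obtain ⟨i, hi⟩ := hgen s hs
    obtain ⟨j, hj⟩ := hgen s' hs'
    rw [hemul, hi, hj]
    by_cases hij : i = j
    · subst hij
      exact ⟨i, Or.inl (by rw [← Pi.single_add]; norm_num)⟩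
    · exact ⟨i, Or.inr ⟨j, hij, Or.inl rfl⟩⟩
  · let φ : (Fin k → ZMod l) →+ (Fin k → ZMod l) := AddMonoidHom.mk' (fun v => e (π (e.symm v)))
      fun v w => by
        rw [← hemul, ← map_mul]
        congr 2
        rw [e.symm_apply_eq, hemul, e.apply_symm_apply, e.apply_symm_apply]
    have hne1 : ∀ t, e t ∈ unit ∨ e t ∈ sums → t ≠ 1 := fun t h ht => by
      subst ht
      rw [heone] at h
      rcases h with ⟨i, hi⟩ | ⟨i, hi | ⟨j, hij, hi | ⟨-, hi⟩⟩⟩ <;> have hi := congrFun hi i
      · simp at hi
      · simp at hi; exact (two_ne h2).1 hi.symm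
      · simp [hij] at hi
      · simp [hij] at hi; exact (two_ne h2).1 hi.symm
    have hφ := rigid h2 φ (fun v w hvw => e.symm.injective (π.injective (e.injective hvw)))
      (fun v hv => by
        have hv' : e (e.symm v) ∈ unit := by rwa [e.apply_symm_apply]
        have hπ' := hπ _ (hne1 _ (Or.inl hv'))
        rw [hk1 _ hv'] at hπ'
        show e (π (e.symm v)) ∈ unit
        simp only [κ] at hπ'
        split_ifs at hπ' with c
        · exact c
        all_goals exact absurd hπ' (by decide))
      (fun v hv => by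
        have hv' : e (e.symm v) ∈ sums := by rwa [e.apply_symm_apply]
        have hπ' := hπ _ (hne1 _ (Or.inr hv'))
        rw [hk2 _ hv'] at hπ'
        show e (π (e.symm v)) ∈ sums
        by_contra d
        simp only [κ, if_neg d] at hπ'
        split_ifs at hπ' <;> exact absurd hπ' (by decide))
    intro t
    have ht := hφ (e t)
    simp only [φ, AddMonoidHom.mk'_apply, e.symm_apply_apply, e.apply_eq_iff_eq] at ht
    exact ht

end Cfsg.Agent.H39.Colour.Abelian
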