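import Cfsg.Agent.H39.Colour.Five
import Cfsg.Agent.H86.BaseTwo.Spec

/-! Soluble permutation groups of order prime to three have colourings of their points with three
colours which are fixed only by the elements acting trivially. -/

set_option autoImplicit false
set_option linter.unusedSectionVars false

namespace Cfsg.Agent.H39.Colour.Three

open MulAction
open scoped Pointwise

universe u

/-- A three colouring fixed only by trivially acting elements. -/
def Good (G : Type u) [Group G] (X : Type u) [MulAction G X] (c : X → Fin 3) : Prop :=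
  ∀ g : G, (∀ x, c (g • x) = c x) → ∀ x : X, g • x = x

/-- Soluble groups of order prime to three have good colourings of smaller sets. -/
def Below (Ω : Type u) : Prop :=
  ∀ (X : Type u) [Finite X] (H : Type u) [Group H] [Finite H] [Group.IsSolvable H]
    [MulAction H X], ¬ 3 ∣ Nat.card H → Nat.card X < Nat.card Ω → ∃ c : X → Fin 3, Good H X c

variable {G : Type u} [Group G] [Finite G] [Group.IsSolvable G] {Ω : Type u} [MulAction G Ω] [Finite Ω]

/-- A colouring of a nonempty set lies in a different orbit from its shifts. -/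
theorem shift_zero (h3 : ¬ 3 ∣ Nat.card G) {X : Type u} [MulAction G X] [Nonempty X] {c : X → Fin 3}
    {g : G} {d : Fin 3} (hg : ∀ x, c (g • x) = c x + d) : d = 0 := by
  obtain ⟨x⟩ := (inferInstance : Nonempty X)
  have hiter : ∀ (m : ℕ) (a : X), c (g ^ m • a) = c a + m • d := by
    intro m
    induction m with
    | zero => simp
    | succ m ih => intro a; rw [pow_succ, mul_smul, ih, hg, succ_nsmul, add_assoc, add_comm d]
  have h := hiter (orderOf g) x
  rw [pow_orderOf_eq_one, one_smul, left_eq_add, ← Nat.mod_add_div (orderOf g) 3, add_nsmul,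
    mul_nsmul] at h
  have h3d : ∀ e : Fin 3, 3 • e = 0 := by decide
  rw [h3d, nsmul_zero, add_zero] at h
  have hne : orderOf g % 3 ≠ 0 := fun h0 => h3 ((Nat.dvd_of_mod_eq_zero h0).trans (orderOf_dvd_natCard g))
  have hcases : orderOf g % 3 = 1 ∨ orderOf g % 3 = 2 := by omega
  have h2d : ∀ e : Fin 3, 2 • e = 0 → e = 0 := by decide
  rcases hcases with e | e <;> rw [e] at h
  · simpa using h
  · exact h2d d h

theorem good_of_invariant (h3 : ¬ 3 ∣ Nat.card G) (ih : Below Ω) {Δ : Set Ω}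
    (hΔ : ∀ (g : G) x, x ∈ Δ → g • x ∈ Δ) (h0 : Δ.Nonempty) (h1 : Δ ≠ Set.univ) :
    ∃ c : Ω → Fin 3, Good G Ω c := by
  classical
  have hΔ' : ∀ (g : G) x, x ∈ Δᶜ → g • x ∈ Δᶜ := fun g x hx h => hx (by simpa using hΔ g⁻¹ _ h)
  let A₁ : SubMulAction G Ω := ⟨Δ, fun g x hx => hΔ g x hx⟩
  let A₂ : SubMulAction G Ω := ⟨Δᶜ, fun g x hx => hΔ' g x hx⟩
  obtain ⟨a, ha⟩ := h0
  obtain ⟨b, hb⟩ := (Set.ne_univ_iff_exists_notMem _).1 h1
  obtain ⟨c₁, hc₁⟩ := ih A₁ G h3 (Finite.card_subtype_lt (x := b) hb)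
  obtain ⟨c₂, hc₂⟩ := ih A₂ G h3 (Finite.card_subtype_lt (x := a) (fun h => h ha))
  refine ⟨fun x => if h : x ∈ Δ then c₁ ⟨x, h⟩ else c₂ ⟨x, h⟩, fun g hg x => ?_⟩
  have e₁ : ∀ x : A₁, c₁ (g • x) = c₁ x := by
    rintro ⟨x, hx⟩
    have h := hg x
    simp only [dif_pos (show x ∈ Δ from hx), dif_pos (hΔ g x hx)] at h
    exact h
  have e₂ : ∀ x : A₂, c₂ (g • x) = c₂ x := by
    rintro ⟨x, hx⟩
    have h := hg x
    simp only [dif_neg (show x ∉ Δ from hx), dif_neg (show g • x ∉ Δ from hΔ' g x hx)] at h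
    exact h
  by_cases hx : x ∈ Δ
  · exact congrArg Subtype.val (hc₁ g e₁ ⟨x, hx⟩)
  · exact congrArg Subtype.val (hc₂ g e₂ ⟨x, hx⟩)

theorem good_of_block [IsPretransitive G Ω] (h3 : ¬ 3 ∣ Nat.card G) (ih : Below Ω)
    {B : Set Ω} (hB : IsBlock G B) (h2 : B.Nontrivial) (hu : B ≠ Set.univ) :
    ∃ c : Ω → Fin 3, Good G Ω c := by
  classical
  obtain ⟨b0, hb0⟩ := h2.nonempty
  have hprod := hB.ncard_block_mul_ncard_orbit_eq h2.nonempty
  have hBcard : 2 ≤ B.ncard := Set.one_lt_ncard_iff_nontrivial.2 h2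
  have horb : Nat.card (orbit G B) < Nat.card Ω := by
    rw [Nat.card_coe_set_eq, ← hprod]
    have hpos : 0 < (orbit G B).ncard := (Set.ncard_pos (Set.toFinite _)).2 ⟨B, mem_orbit_self B⟩
    exact (Nat.lt_mul_iff_one_lt_left hpos).2 hBcard
  obtain ⟨c₀, hc₀⟩ := ih (orbit G B) G h3 horb
  let HB := stabilizer G B
  have hHB : ∀ (h : HB) x, x ∈ B → h • x ∈ B := fun h x hx => by
    rw [Subgroup.smul_def]
    have hh : (h : G) • B = B := h.2
    exact hh ▸ Set.smul_mem_smul_set hx
  let Bs : SubMulAction HB Ω := ⟨B, fun h x hx => hHB h x hx⟩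
  obtain ⟨z0, hz0⟩ := (Set.ne_univ_iff_exists_notMem _).1 hu
  haveI : Nonempty Bs := ⟨⟨b0, hb0⟩⟩
  obtain ⟨c₁, hc₁⟩ := ih Bs HB
    (fun h => h3 (h.trans (Subgroup.card_subgroup_dvd_card _))) (Finite.card_subtype_lt (x := z0) hz0)
  choose t ht' using fun C : orbit G B => C.2
  have ht : ∀ C : orbit G B, t C • B = (C : Set Ω) := ht'
  have hblk : ∀ (x : Ω) (C D : orbit G B), x ∈ (C : Set Ω) → x ∈ (D : Set Ω) → C = D := by
    intro x C D hC hD
    rw [← ht C] at hC
    rw [← ht D] at hD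
    refine Subtype.ext ((ht C).symm.trans (Eq.trans ?_ (ht D)))
    exact hB.smul_eq_smul_of_nonempty ⟨x, hC, hD⟩
  have hcov : ∀ x : Ω, ∃ C : orbit G B, x ∈ (C : Set Ω) := fun x => by
    obtain ⟨k, hk⟩ := MulAction.exists_smul_eq G b0 x
    exact ⟨⟨k • B, mem_orbit B k⟩, hk ▸ Set.smul_mem_smul_set hb0⟩
  choose blk hblk' using hcov
  have hmem : ∀ (C : orbit G B) x, x ∈ (C : Set Ω) → (t C)⁻¹ • x ∈ B := fun C x hx => by
    rw [← Set.mem_smul_set_iff_inv_smul_mem, ht C]; exact hx
  let c : Ω → Fin 3 := fun x => c₁ ⟨_, hmem (blk x) x (hblk' x)⟩ + c₀ (blk x)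
  have hc : ∀ (C : orbit G B) (y : Bs), c (t C • (y : Ω)) = c₁ y + c₀ C := by
    intro C y
    have hin : t C • (y : Ω) ∈ (C : Set Ω) := ht C ▸ Set.smul_mem_smul_set y.2
    have e : blk (t C • (y : Ω)) = C := hblk _ _ _ (hblk' _) hin
    simp only [c]
    congr 2
    · exact Subtype.ext (by simp [e])
  refine ⟨c, fun g hg => ?_⟩
  have hmove : ∀ C : orbit G B, ∃ h : HB, (h : G) = (t (g • C))⁻¹ * g * t C ∧
      (∀ y : Bs, h • y = y) ∧ c₀ (g • C) = c₀ C := by
    intro C
    have hst : (t (g • C))⁻¹ * g * t C ∈ HB := by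
      rw [mem_stabilizer_iff, mul_smul, mul_smul, inv_smul_eq_iff]
      exact (congrArg (g • ·) (ht C)).trans (ht (g • C)).symm
    refine ⟨⟨_, hst⟩, rfl, ?_⟩
    have key : ∀ y : Bs, c₁ ((⟨_, hst⟩ : HB) • y) = c₁ y + (c₀ C - c₀ (g • C)) := by
      intro y
      have h1 := hg (t C • (y : Ω))
      have e : g • t C • (y : Ω) = t (g • C) • (((⟨_, hst⟩ : HB) • y : Bs) : Ω) := by
        show _ = t (g • C) • (((t (g • C))⁻¹ * g * t C) • (y : Ω))
        rw [mul_smul, mul_smul, smul_inv_smul]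
      rw [e, hc, hc] at h1
      rw [eq_sub_of_add_eq h1]; abel
    have h0 := shift_zero (fun h => h3 (h.trans (Subgroup.card_subgroup_dvd_card HB))) key
    have hfix := hc₁ _ fun y => (key y).trans (by rw [h0, add_zero])
    exact ⟨hfix, (sub_eq_zero.1 h0).symm⟩
  have hall := hc₀ g fun C => (hmove C).choose_spec.2.2
  intro x
  obtain ⟨h, hh, hfix, -⟩ := hmove (blk x)
  rw [hall (blk x)] at hh
  have hz := congrArg Subtype.val (hfix ⟨_, hmem (blk x) x (hblk' x)⟩)
  change (h : G) • (t (blk x))⁻¹ • x = (t (blk x))⁻¹ • x at hz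
  rw [hh, mul_smul, mul_smul, smul_inv_smul, inv_smul_eq_iff, smul_inv_smul] at hz
  exact hz

section Vectors

variable {p : ℕ} [Fact p.Prime] {k : ℕ}

/-- Basis vectors, their doubles, and `eᵢ + 2 eᵢ₊₁`. -/
def rset : Set (Fin k → ZMod p) :=
  {v | ∃ i, v = Pi.single i 1 ∨ v = Pi.single i 2 ∨ ∃ j : Fin k, (j : ℕ) = (i : ℕ) + 1 ∧
    v = Pi.single i 1 + Pi.single j 2}

theorem small_ne (hp2 : p ≠ 2) (hp3 : p ≠ 3) :
    (2 : ZMod p) ≠ 0 ∧ (3 : ZMod p) ≠ 0 ∧ (4 : ZMod p) ≠ 0 := by
  have hp : p.Prime := Fact.out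
  have key : ∀ m : ℕ, ((m : ℕ) : ZMod p) = 0 → p ∣ m := fun m => (ZMod.natCast_eq_zero_iff m p).1
  refine ⟨fun h => ?_, fun h => ?_, fun h => ?_⟩
  · exact hp2 ((Nat.prime_dvd_prime_iff_eq hp Nat.prime_two).1 (key 2 (by exact_mod_cast h)))
  · exact hp3 ((Nat.prime_dvd_prime_iff_eq hp Nat.prime_three).1 (key 3 (by exact_mod_cast h)))
  · have h4 : p ∣ 2 ^ 2 := key 4 (by exact_mod_cast h)
    exact hp2 ((Nat.prime_dvd_prime_iff_eq hp Nat.prime_two).1 (hp.dvd_of_dvd_pow h4))

theorem rset_coord {v : Fin k → ZMod p} (hv : v ∈ rset) (l : Fin k) : v l = 0 ∨ v l = 1 ∨ v l = 2 := by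
  obtain ⟨i, h | h | ⟨j, hj, h⟩⟩ := hv <;> subst h
  · by_cases hl : l = i <;> simp [hl]
  · by_cases hl : l = i <;> simp [hl]
  · have hij : i ≠ j := fun e => by subst e; omega
    by_cases hl : l = i
    · simp [hl, hij]
    · by_cases hl' : l = j <;> simp [hl, hl', Ne.symm hij]

/-- The basis vectors are seen in the set. -/
theorem rset_double (hp2 : p ≠ 2) (hp3 : p ≠ 3) {v : Fin k → ZMod p} :
    (v ∈ rset ∧ v + v ∈ rset) ↔ ∃ i, v = Pi.single i 1 := by
  obtain ⟨n2, n3, n4⟩ := small_ne (p := p) hp2 hp3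
  constructor
  · rintro ⟨hv, hvv⟩
    have bad : ∀ l, v l ≠ 2 := fun l hl => by
      have := rset_coord hvv l
      simp only [Pi.add_apply, hl] at this
      rcases this with h | h | h
      · exact n4 (by linear_combination h)
      · exact n3 (by linear_combination h)
      · exact n2 (by linear_combination h)
    obtain ⟨i, h | h | ⟨j, hj, h⟩⟩ := hv
    · exact ⟨i, h⟩
    · exact absurd (by simp [h]) (bad i)
    · have hij : i ≠ j := fun e => by subst e; omega
      exact absurd (by simp [h, Ne.symm hij]) (bad j)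
  · rintro ⟨i, rfl⟩
    refine ⟨⟨i, Or.inl rfl⟩, ⟨i, Or.inr (Or.inl ?_)⟩⟩
    rw [← Pi.single_add]; norm_num

/-- An injective additive map keeping the set is the identity. -/
theorem rset_rigid (hp2 : p ≠ 2) (hp3 : p ≠ 3) (φ : (Fin k → ZMod p) →+ (Fin k → ZMod p))
    (hinj : Function.Injective φ) (hset : ∀ v, φ v ∈ rset ↔ v ∈ rset) : ∀ v, φ v = v := by
  obtain ⟨n2, n3, -⟩ := small_ne (p := p) hp2 hp3
  have hσ : ∀ i, ∃ s, φ (Pi.single i 1) = Pi.single s 1 := fun i => by
    refine (rset_double hp2 hp3).1 ?_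
    rw [← map_add, hset, hset]
    exact (rset_double hp2 hp3).2 ⟨i, rfl⟩
  choose σ hσ using hσ
  have hσinj : Function.Injective σ := fun i j h => by
    have h1 : φ (Pi.single i 1) = φ (Pi.single j 1) := by rw [hσ, hσ, h]
    exact single_inj (hinj h1)
  have hsucc : ∀ i j : Fin k, (j : ℕ) = (i : ℕ) + 1 → (σ j : ℕ) = (σ i : ℕ) + 1 := by
    intro i j hij
    have hne : i ≠ j := fun e => by subst e; omega
    have hne' : σ i ≠ σ j := fun e => hne (hσinj e)
    have h2 : ∀ l : Fin k, (Pi.single l 2 : Fin k → ZMod p) = Pi.single l 1 + Pi.single l 1 := fun l => by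
      rw [← Pi.single_add]; norm_num
    have hv := (hset _).2 (⟨i, Or.inr (Or.inr ⟨j, hij, rfl⟩)⟩ : Pi.single i 1 + Pi.single j 2 ∈ rset (p := p))
    rw [map_add, h2, map_add, hσ, hσ, ← h2] at hv
    obtain ⟨l, h | h | ⟨m, hlm, h⟩⟩ := hv
    · have hj := congrFun h (σ j)
      simp [Ne.symm hne'] at hj
      by_cases hl : σ j = l
      · simp [hl] at hj; exact absurd (by linear_combination hj) (one_ne_zero (α := ZMod p))
      · simp [hl] at hj; exact absurd hj n2
    · have hi := congrFun h (σ i)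
      simp [hne'] at hi
      by_cases hl : σ i = l
      · simp [hl] at hi; exact absurd (by linear_combination -hi) (one_ne_zero (α := ZMod p))
      · simp [hl] at hi
    · have hlm' : l ≠ m := fun e => by subst e; omega
      have hi := congrFun h (σ i)
      have hj := congrFun h (σ j)
      simp [hne', Ne.symm hne'] at hi hj
      have hil : σ i = l := by
        by_contra hl
        by_cases hm : σ i = m
        · simp [hm, Ne.symm hlm'] at hi; exact absurd (by linear_combination -hi) (one_ne_zero (α := ZMod p))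
        · simp [hl, hm] at hi
      have hjm : σ j = m := by
        by_contra hm
        have : σ j ≠ l := fun e => hne' (hil.trans e.symm)
        simp [this, hm] at hj
        exact absurd hj n2
      rw [hil, hjm]; exact hlm
  have hlin : ∀ (d : ℕ) (i j : Fin k), (j : ℕ) = (i : ℕ) + d → (σ j : ℕ) = (σ i : ℕ) + d := by
    intro d
    induction d with
    | zero => intro i j h; rw [Fin.ext (h.trans (add_zero _)) ]; rfl
    | succ d ih =>
      intro i j h
      let j' : Fin k := ⟨(i : ℕ) + d, by have := j.2; omega⟩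
      have h1 := ih i j' rfl
      have h2 := hsucc j' j (by show _ = (i : ℕ) + d + 1; omega)
      omega
  have hid : ∀ i, σ i = i := fun i => by
    have hk : 0 < k := by have := i.2; omega
    let o : Fin k := ⟨0, hk⟩
    let t : Fin k := ⟨k - 1, by omega⟩
    have ht := hlin (k - 1) o t (by show k - 1 = 0 + (k - 1); omega)
    have hb := (σ t).2
    have hi := hlin (i : ℕ) o i (by show (i : ℕ) = 0 + i; omega)
    exact Fin.ext (by omega)
  have : φ.toZModLinearMap p = LinearMap.id := (Pi.basisFun (ZMod p) (Fin k)).ext fun i => by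
    simp only [Pi.basisFun_apply, LinearMap.id_apply]
    exact (hσ i).trans (by rw [hid])
  exact fun v => LinearMap.congr_fun this v

end Vectors

open H86.BaseTwo in
/-- A subset of an elementary abelian group avoiding one and rigid for a group of automorphisms. -/
theorem exists_rigid (hL : RigidLarge.{u}) (hS : RigidSmall.{u}) {p : ℕ} [Fact p.Prime] (hp3 : p ≠ 3)
    (T : Type u) [CommGroup T] [Finite T] (hexp : ∀ t : T, t ^ p = 1) (P : Subgroup (MulAut T))
    (hP : ¬ 3 ∣ Nat.card P) :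
    ∃ Δ : Set T, (1 : T) ∉ Δ ∧ ∀ π ∈ P, (∀ t : T, π t ∈ Δ ↔ t ∈ Δ) → π = 1 := by
  letI : Module (ZMod p) (Additive T) := AddCommGroup.zmodModule (n := p) fun x =>
    congrArg Additive.ofMul (hexp x.toMul)
  haveI : Module.Finite (ZMod p) (Additive T) := Module.Finite.of_finite
  let k := Module.finrank (ZMod p) (Additive T)
  let b : Module.Basis (Fin k) (ZMod p) (Additive T) := Module.finBasis _ _
  let e : T ≃ (Fin k → ZMod p) := Additive.ofMul.trans b.equivFun.toEquiv
  by_cases hp2 : p = 2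
  · subst hp2
    have hsq : ∀ t : T, t * t = 1 := fun t => by rw [← pow_two]; exact hexp t
    have hcard : Nat.card T = 2 ^ k := by
      rw [Nat.card_congr e, Nat.card_fun, Nat.card_zmod, Nat.card_fin]
    rcases le_or_gt k 4 with hk | hk
    · obtain ⟨Δ, h1, hr⟩ := hS T hsq (hcard ▸ Nat.pow_le_pow_right two_pos hk) P hP
      exact ⟨↑Δ, fun h => h1 (Finset.mem_coe.1 h), fun π hπ h => hr π hπ fun t => by simpa using h t⟩
    · obtain ⟨Δ, h1, -, -, hr⟩ := hL T hsq (hcard ▸ Nat.pow_le_pow_right two_pos (show 5 ≤ k from hk))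
      exact ⟨↑Δ, fun h => h1 (Finset.mem_coe.1 h), fun π _ h =>
        MulEquiv.ext fun t => hr π (fun t => by simpa using h t) t⟩
  have hemul : ∀ x y, e (x * y) = e x + e y := fun x y => map_add b.equivFun _ _
  have heone : e 1 = 0 := map_zero b.equivFun
  refine ⟨{t | e t ∈ rset}, fun h => ?_, fun π _ h => ?_⟩
  · obtain ⟨n2, -, -⟩ := small_ne (p := p) hp2 hp3
    rw [Set.mem_setOf_eq, heone] at h
    obtain ⟨i, h | h | ⟨j, hj, h⟩⟩ := h
    · simpa using congrFun h i
    · exact n2 (by simpa using (congrFun h i).symm)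
    · have hij : i ≠ j := fun e => by subst e; omega
      simpa [hij] using congrFun h i
  · let φ : (Fin k → ZMod p) →+ (Fin k → ZMod p) := AddMonoidHom.mk' (fun v => e (π (e.symm v)))
      fun v w => by
        rw [← hemul, ← map_mul]
        congr 2
        rw [e.symm_apply_eq, hemul, e.apply_symm_apply, e.apply_symm_apply]
    have hid := rset_rigid hp2 hp3 φ
      (fun v w hvw => e.symm.injective (π.injective (e.injective hvw)))
      (fun v => (h (e.symm v)).trans (by simp))
    refine MulEquiv.ext fun t => ?_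
    have ht := hid (e t)
    simp only [φ, AddMonoidHom.mk'_apply, e.symm_apply_apply, e.apply_eq_iff_eq] at ht
    exact ht

open H86.BaseTwo in
theorem good_of_primitive (hL : RigidLarge.{u}) (hS : RigidSmall.{u}) (h3 : ¬ 3 ∣ Nat.card G)
    [FaithfulSMul G Ω] [IsPreprimitive G Ω] [Nontrivial Ω] :
    ∃ c : Ω → Fin 3, Good G Ω c := by
  classical
  haveI : Nontrivial G := by
    by_contra hne
    rw [not_nontrivial_iff_subsingleton] at hne
    obtain ⟨a, b, hab⟩ := exists_pair_ne Ω
    obtain ⟨g, hg⟩ := MulAction.exists_smul_eq G a b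
    exact hab (by rw [← hg, Subsingleton.elim g 1, one_smul])
  obtain ⟨N, p, hNn, hNne, hp, hcomm, hexp⟩ := H52.RegPair.exists_normal_elementary (G := G)
  haveI := hNn
  haveI := Fact.mk hp
  have hp3 : p ≠ 3 := by
    rintro rfl
    obtain ⟨⟨x, hx⟩, hx1⟩ := (Subgroup.nontrivial_iff_ne_bot N).2 hNne |>.exists_pair_ne |>
      fun ⟨a, b, hab⟩ => (by
        by_cases ha : a = 1
        · exact ⟨b, fun hb => hab (ha.trans hb.symm)⟩
        · exact ⟨a, ha⟩ : ∃ a : N, a ≠ 1)
    have ho : orderOf x = 3 := orderOf_eq_prime (hexp x hx) fun e => hx1 (Subtype.ext e)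
    exact h3 (ho ▸ orderOf_dvd_natCard x)
  haveI : IsPretransitive N Ω := by
    refine IsQuasiPreprimitive.isPretransitive_of_normal (fun hfix => hNne ?_)
    refine (Subgroup.eq_bot_iff_forall N).2 fun x hx => eq_of_smul_eq_smul (α := Ω) fun a => ?_
    have ha : a ∈ fixedPoints N Ω := hfix ▸ Set.mem_univ a
    rw [one_smul]
    exact ha ⟨x, hx⟩
  have ω : Ω := Classical.arbitrary Ω
  letI : CommGroup N := { (inferInstance : Group N) with
    mul_comm := fun a b => Subtype.ext (hcomm a a.2 b b.2) }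
  have hfree : ∀ x : N, x • ω = ω → x = 1 := by
    intro x hx
    refine Subtype.ext (eq_of_smul_eq_smul (α := Ω) fun a => ?_)
    obtain ⟨y, rfl⟩ := MulAction.exists_smul_eq N ω a
    rw [OneMemClass.coe_one, one_smul]
    show x • y • ω = y • ω
    rw [← mul_smul, mul_comm, mul_smul, hx]
  have hbij : Function.Bijective fun x : N => x • ω := by
    refine ⟨fun x y h => ?_, fun a => MulAction.exists_smul_eq N ω a⟩
    have h' : x • ω = y • ω := h
    exact (inv_mul_eq_one.1 (hfree (y⁻¹ * x) (by rw [mul_smul, h', inv_smul_smul]))).symm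
  let P : Subgroup (MulAut N) := (stabilizer G ω).map (MulAut.conjNormal : G →* MulAut N)
  have hP : ¬ 3 ∣ Nat.card P := fun h =>
    h3 ((h.trans (Subgroup.card_map_dvd _ _)).trans (Subgroup.card_subgroup_dvd_card _))
  obtain ⟨Δ, hΔ1, hΔ⟩ := exists_rigid hL hS hp3 N
    (fun t => Subtype.ext (hexp t t.2)) P hP
  let π : N ≃ Ω := Equiv.ofBijective _ hbij
  let col : N → Fin 3 := fun x => if x = 1 then 0 else if x ∈ Δ then 1 else 2
  have hcol0 : ∀ x, col x = 0 ↔ x = 1 := fun x => by simp only [col]; split_ifs <;> simp_all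
  have hcol1 : ∀ x, col x = 1 ↔ x ∈ Δ := fun x => by
    simp only [col]
    split_ifs with a b
    · subst a; simpa using hΔ1
    · simpa using b
    · simpa using b
  refine ⟨fun a => col (π.symm a), fun g hg => ?_⟩
  have hπ1 : π 1 = ω := one_smul N ω
  have hω : g • ω = ω := by
    have h : col (π.symm (g • ω)) = col (π.symm ω) := hg ω
    have h0 : π.symm ω = 1 := by rw [Equiv.symm_apply_eq, hπ1]
    rw [h0, (hcol0 1).2 rfl, hcol0, ← h0] at h
    exact π.symm.injective h
  have hω' : g⁻¹ • ω = ω := by rw [inv_smul_eq_iff, hω]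
  have hact : ∀ x : N, g • π x = π (MulAut.conjNormal g x) := fun x => by
    show g • ((x : G) • ω) = ((MulAut.conjNormal g x : N) : G) • ω
    rw [MulAut.conjNormal_apply, mul_smul, hω', mul_smul]
  have hid : (MulAut.conjNormal g : MulAut N) = 1 := by
    refine hΔ _ (Subgroup.mem_map_of_mem _ (show g ∈ stabilizer G ω from hω)) fun t => ?_
    have h : col (π.symm (g • π t)) = col (π.symm (π t)) := hg (π t)
    rw [hact, π.symm_apply_apply, π.symm_apply_apply] at h
    rw [← hcol1, ← hcol1, h]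
  intro a
  obtain ⟨x, rfl⟩ := π.surjective a
  rw [hact, hid]
  rfl

open H86.BaseTwo in
/-- Every soluble group of order prime to three has a three colouring fixed only by trivial elements. -/
theorem colourAll3 (hL : RigidLarge.{u}) (hS : RigidSmall.{u}) : ColourAll3.{u} := by
  suffices h : ∀ n, ∀ (Ω : Type u) [Finite Ω] (G : Type u) [Group G] [Finite G]
      [Group.IsSolvable G] [MulAction G Ω], ¬ 3 ∣ Nat.card G → Nat.card Ω = n →
        ∃ c : Ω → Fin 3, Good G Ω c by
    intro G _ _ Ω _ _ hs h3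
    haveI := hs
    exact h _ Ω G h3 rfl
  intro n
  induction n using Nat.strong_induction_on with
  | _ n ih =>
    intro Ω _ G _ _ _ _ h3 hn
    subst hn
    have ih' : Below Ω := fun X _ H _ _ _ _ h3' hX => ih _ hX X H h3' rfl
    rcases subsingleton_or_nontrivial Ω with hs | hnt
    · exact ⟨fun _ => 0, fun g _ x => Subsingleton.elim _ _⟩
    by_cases htr : IsPretransitive G Ω
    swap
    · obtain ⟨a, b, hab⟩ : ∃ a b : Ω, ∀ g : G, g • a ≠ b := by
        by_contra hno
        push Not at hno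
        exact htr ⟨hno⟩
      exact good_of_invariant h3 ih' (Δ := orbit G a) (fun g x hx => mapsTo_smul_orbit g a hx)
        ⟨a, mem_orbit_self a⟩ (fun h => by
          obtain ⟨g, hg⟩ : b ∈ orbit G a := h ▸ Set.mem_univ b
          exact hab g hg)
    by_cases hpr : IsPreprimitive G Ω
    swap
    · obtain ⟨B, hB, hBt⟩ : ∃ B : Set Ω, IsBlock G B ∧ ¬ IsTrivialBlock B := by
        by_contra hno
        push Not at hno
        exact hpr { isTrivialBlock_of_isBlock := fun {B} hB => hno B hB }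
      simp only [IsTrivialBlock, not_or, Set.not_subsingleton_iff] at hBt
      exact good_of_block h3 ih' hB hBt.1 hBt.2
    let φ := MulAction.toPermHom G Ω
    haveI : Group.IsSolvable φ.range := Group.isSolvable_of_surjective φ.rangeRestrict_surjective
    haveI : IsPreprimitive φ.range Ω := IsPreprimitive.of_surjective (φ := φ.rangeRestrict)
      (f := ({ toFun := id, map_smul' := fun _ _ => rfl } : Ω →ₑ[φ.rangeRestrict] Ω)) Function.surjective_id
    obtain ⟨c, hc⟩ := good_of_primitive (G := φ.range) (Ω := Ω) hL hS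
      (fun h => h3 (h.trans (Subgroup.card_range_dvd φ)))
    exact ⟨c, fun g hg => hc (φ.rangeRestrict g) hg⟩

end Cfsg.Agent.H39.Colour.Three
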